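import Cfsg.Agent.Spor.LyMcb.D0

set_option autoImplicit false
set_option maxRecDepth 100000000
set_option Elab.async false

namespace Cfsg.Agent.Spor.LyMcb

theorem ok0 : Net.okb 8 n0 = true := by decide +kernel

theorem ok1 : Net.okb 8 n1 = true := by decide +kernel

theorem ok2 : Net.okb 8 n2 = true := by decide +kernel

theorem ok3 : Net.okb 8 n3 = true := by decide +kernel

theorem rel0 : T.rel 8 [5, 2, 2] 0 8 = true := by decide +kernel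

theorem rel1 : T.rel 8 [7, 2, 3, 2, 1, 1, 4, 3, 2, 3, 3, 4] 0 8 = true := by decide +kernel

theorem rel2 : T.rel 8 [7, 7, 7, 7] 0 8 = true := by decide +kernel

theorem rel3 : T.rel 8 [5, 1, 1, 5, 8, 1, 7] 0 8 = true := by decide +kernel

theorem rel4 : T.rel 8 [5, 7, 5, 7, 7, 5, 8] 0 8 = true := by decide +kernel

theorem rel5 : T.rel 8 [1, 7, 3, 7, 3, 3, 8, 8] 0 8 = true := by decide +kernel

theorem rel6 : T.rel 8 [5, 1, 5, 1, 5, 3, 5, 3] 0 8 = true := by decide +kernel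

theorem rel7 : T.rel 8 [5, 5] 0 8 = true := by decide +kernel

theorem rel8 : T.rel 8 [1, 1, 1, 1, 1] 0 8 = true := by decide +kernel

theorem rel9 : T.rel 8 [2, 1, 2, 2, 1, 1, 4, 3, 2, 3, 2, 1, 4, 8] 0 8 = true := by decide +kernel

theorem rel10 : T.rel 8 [2, 1, 2, 1, 1, 4, 1, 1, 2, 1, 4, 1, 1, 6, 1] 0 8 = true := by decide +kernel

theorem rel11 : T.rel 8 [2, 1, 4, 3, 2, 1, 4, 3, 2, 1, 4, 3] 0 8 = true := by decide +kernel

theorem hcov : T.treeCov (ones 252) L 1 = true := by decide +kernel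

theorem hg : lall (fun z => band (memL L z) (band (sub (ones 252) (T.let z).cl) (T.closed (ones 252) z))) gs = true := by decide +kernel

theorem rot1_1 : T.rot 1 [3] (sel (ones 252) ip1 1) = true := by decide +kernel

theorem rot1_1r : band (Rule.ok (2 * 0) EX RL ⟨1 :: [3], [], 10, false⟩) (lall (memL L) [3]) = true := by decide +kernel

theorem rot1_2 : T.rot 1 [1, 1, 1, 1] (sel (ones 252) ip1 2) = true := by decide +kernel

theorem rot1_2r : band (Rule.ok (2 * 0) EX RL ⟨1 :: [1, 1, 1, 1], [], 6, true⟩) (lall (memL L) [1, 1, 1, 1]) = true := by decide +kernel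

theorem rot1_3 : T.rot 1 [1, 5, 8, 1, 7, 5] (sel (ones 252) ip1 3) = true := by decide +kernel

theorem rot1_3r : band (Rule.ok (2 * 0) EX RL ⟨1 :: [1, 5, 8, 1, 7, 5], [2, 2], 1, true⟩) (lall (memL L) [1, 5, 8, 1, 7, 5]) = true := by decide +kernel

theorem rot1_4 : T.rot 1 [7, 5, 1, 1, 5, 8] (sel (ones 252) ip1 4) = true := by decide +kernel

theorem rot1_4r : band (Rule.ok (2 * 0) EX RL ⟨1 :: [7, 5, 1, 1, 5, 8], [3, 0, 3, 1, 1, 2, 0, 3, 0, 0, 2, 0], 1, true⟩) (lall (memL L) [7, 5, 1, 1, 5, 8]) = true := by decide +kernel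

theorem rot1_5 : T.rot 1 [5, 1, 5, 3, 5, 3, 5] (sel (ones 252) ip1 5) = true := by decide +kernel

theorem rot1_5r : band (Rule.ok (2 * 0) EX RL ⟨1 :: [5, 1, 5, 3, 5, 3, 5], [2, 2], 4, true⟩) (lall (memL L) [5, 1, 5, 3, 5, 3, 5]) = true := by decide +kernel

theorem rot1_6 : T.rot 1 [5, 3, 5, 3, 5, 1, 5] (sel (ones 252) ip1 6) = true := by decide +kernel

theorem rot1_6r : band (Rule.ok (2 * 0) EX RL ⟨1 :: [5, 3, 5, 3, 5, 1, 5], [2, 2, 1, 2, 2], 4, true⟩) (lall (memL L) [5, 3, 5, 3, 5, 1, 5]) = true := by decide +kernel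

theorem rot1_7 : T.rot 1 [6, 1, 6, 3, 6, 3, 6] (sel (ones 252) ip1 7) = true := by decide +kernel

theorem rot1_7r : band (Rule.ok (2 * 0) EX RL ⟨1 :: [6, 1, 6, 3, 6, 3, 6], [], 4, false⟩) (lall (memL L) [6, 1, 6, 3, 6, 3, 6]) = true := by decide +kernel

theorem rot1_8 : T.rot 1 [6, 3, 6, 3, 6, 1, 6] (sel (ones 252) ip1 8) = true := by decide +kernel

theorem rot1_8r : band (Rule.ok (2 * 0) EX RL ⟨1 :: [6, 3, 6, 3, 6, 1, 6], [1, 3, 3], 4, false⟩) (lall (memL L) [6, 3, 6, 3, 6, 1, 6]) = true := by decide +kernel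

theorem rot1_9 : T.rot 1 [4, 3, 2, 1, 4, 3, 2, 1, 4, 3, 2] (sel (ones 252) ip1 9) = true := by decide +kernel

theorem rot1_9r : band (Rule.ok (2 * 0) EX RL ⟨1 :: [4, 3, 2, 1, 4, 3, 2, 1, 4, 3, 2], [3], 9, true⟩) (lall (memL L) [4, 3, 2, 1, 4, 3, 2, 1, 4, 3, 2]) = true := by decide +kernel

theorem rot1_10 : T.rot 1 [2, 3, 4, 1, 2, 3, 4, 1, 2, 3, 4] (sel (ones 252) ip1 10) = true := by decide +kernel

theorem rot1_10r : band (Rule.ok (2 * 0) EX RL ⟨1 :: [2, 3, 4, 1, 2, 3, 4, 1, 2, 3, 4], [], 9, false⟩) (lall (memL L) [2, 3, 4, 1, 2, 3, 4, 1, 2, 3, 4]) = true := by decide +kernel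

theorem rot1_11 : T.rot 1 [1, 4, 1, 2, 3, 3, 4, 1, 4, 8, 2] (sel (ones 252) ip1 11) = true := by decide +kernel

theorem rot1_11r : band (Rule.ok (2 * 0) EX RL ⟨1 :: [1, 4, 1, 2, 3, 3, 4, 1, 4, 8, 2], [], 10, false⟩) (lall (memL L) [1, 4, 1, 2, 3, 3, 4, 1, 4, 8, 2]) = true := by decide +kernel

theorem rot1_12 : T.rot 1 [4, 1, 2, 3, 3, 4, 1, 4, 8, 2, 1] (sel (ones 252) ip1 12) = true := by decide +kernel

theorem rot1_12r : band (Rule.ok (2 * 0) EX RL ⟨1 :: [4, 1, 2, 3, 3, 4, 1, 4, 8, 2, 1], [], 10, false⟩) (lall (memL L) [4, 1, 2, 3, 3, 4, 1, 4, 8, 2, 1]) = true := by decide +kernel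

theorem rot1_13 : T.rot 1 [2, 3, 3, 4, 1, 4, 8, 2, 1, 1, 4] (sel (ones 252) ip1 13) = true := by decide +kernel

theorem rot1_13r : band (Rule.ok (2 * 0) EX RL ⟨1 :: [2, 3, 3, 4, 1, 4, 8, 2, 1, 1, 4], [], 10, false⟩) (lall (memL L) [2, 3, 3, 4, 1, 4, 8, 2, 1, 1, 4]) = true := by decide +kernel

theorem rot1_14 : T.rot 1 [4, 8, 2, 1, 1, 4, 1, 2, 3, 3, 4] (sel (ones 252) ip1 14) = true := by decide +kernel

theorem rot1_14r : band (Rule.ok (2 * 0) EX RL ⟨1 :: [4, 8, 2, 1, 1, 4, 1, 2, 3, 3, 4], [], 10, false⟩) (lall (memL L) [4, 8, 2, 1, 1, 4, 1, 2, 3, 3, 4]) = true := by decide +kernel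

theorem rot1_15 : T.rot 1 [4, 3, 2, 3, 3, 4, 7, 2, 3, 2, 1] (sel (ones 252) ip1 15) = true := by decide +kernel

theorem rot1_15r : band (Rule.ok (2 * 0) EX RL ⟨1 :: [4, 3, 2, 3, 3, 4, 7, 2, 3, 2, 1], [], 10, false⟩) (lall (memL L) [4, 3, 2, 3, 3, 4, 7, 2, 3, 2, 1]) = true := by decide +kernel

theorem rot1_16 : T.rot 1 [1, 4, 3, 2, 3, 2, 1, 4, 8, 2, 1, 2, 2] (sel (ones 252) ip1 16) = true := by decide +kernel

theorem rot1_16r : band (Rule.ok (2 * 0) EX RL ⟨1 :: [1, 4, 3, 2, 3, 2, 1, 4, 8, 2, 1, 2, 2], [3, 1, 3, 3], 7, true⟩) (lall (memL L) [1, 4, 3, 2, 3, 2, 1, 4, 8, 2, 1, 2, 2]) = true := by decide +kernel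

theorem rot1_17 : T.rot 1 [4, 1, 2, 3, 3, 4, 4, 3, 4, 7, 2, 3, 4] (sel (ones 252) ip1 17) = true := by decide +kernel

theorem rot1_17r : band (Rule.ok (2 * 0) EX RL ⟨1 :: [4, 1, 2, 3, 3, 4, 4, 3, 4, 7, 2, 3, 4], [3, 1], 7, false⟩) (lall (memL L) [4, 1, 2, 3, 3, 4, 4, 3, 4, 7, 2, 3, 4]) = true := by decide +kernel

theorem rot1_18 : T.rot 1 [2, 3, 3, 4, 4, 3, 4, 7, 2, 3, 4, 1, 4] (sel (ones 252) ip1 18) = true := by decide +kernel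

theorem rot1_18r : band (Rule.ok (2 * 0) EX RL ⟨1 :: [2, 3, 3, 4, 4, 3, 4, 7, 2, 3, 4, 1, 4], [3, 1, 1, 2], 7, false⟩) (lall (memL L) [2, 3, 3, 4, 4, 3, 4, 7, 2, 3, 4, 1, 4]) = true := by decide +kernel

theorem rot1_19 : T.rot 1 [2, 1, 1, 4, 1, 1, 2, 1, 4, 1, 1, 6, 1, 2] (sel (ones 252) ip1 19) = true := by decide +kernel

theorem rot1_19r : band (Rule.ok (2 * 0) EX RL ⟨1 :: [2, 1, 1, 4, 1, 1, 2, 1, 4, 1, 1, 6, 1, 2], [3], 8, true⟩) (lall (memL L) [2, 1, 1, 4, 1, 1, 2, 1, 4, 1, 1, 6, 1, 2]) = true := by decide +kernel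

theorem rot1_20 : T.rot 1 [1, 4, 1, 1, 2, 1, 4, 1, 1, 6, 1, 2, 1, 2] (sel (ones 252) ip1 20) = true := by decide +kernel

theorem rot1_20r : band (Rule.ok (2 * 0) EX RL ⟨1 :: [1, 4, 1, 1, 2, 1, 4, 1, 1, 6, 1, 2, 1, 2], [3, 1, 3], 8, true⟩) (lall (memL L) [1, 4, 1, 1, 2, 1, 4, 1, 1, 6, 1, 2, 1, 2]) = true := by decide +kernel

theorem rot1_21 : T.rot 1 [4, 1, 1, 2, 1, 4, 1, 1, 6, 1, 2, 1, 2, 1] (sel (ones 252) ip1 21) = true := by decide +kernel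

theorem rot1_21r : band (Rule.ok (2 * 0) EX RL ⟨1 :: [4, 1, 1, 2, 1, 4, 1, 1, 6, 1, 2, 1, 2, 1], [3, 1, 3, 1], 8, true⟩) (lall (memL L) [4, 1, 1, 2, 1, 4, 1, 1, 6, 1, 2, 1, 2, 1]) = true := by decide +kernel

theorem rot1_22 : T.rot 1 [1, 2, 1, 4, 1, 1, 6, 1, 2, 1, 2, 1, 1, 4] (sel (ones 252) ip1 22) = true := by decide +kernel

theorem rot1_22r : band (Rule.ok (2 * 0) EX RL ⟨1 :: [1, 2, 1, 4, 1, 1, 6, 1, 2, 1, 2, 1, 1, 4], [3, 1, 3, 1, 1, 2], 8, true⟩) (lall (memL L) [1, 2, 1, 4, 1, 1, 6, 1, 2, 1, 2, 1, 1, 4]) = true := by decide +kernel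

theorem rot1_23 : T.rot 1 [2, 1, 4, 1, 1, 6, 1, 2, 1, 2, 1, 1, 4, 1] (sel (ones 252) ip1 23) = true := by decide +kernel

theorem rot1_23r : band (Rule.ok (2 * 0) EX RL ⟨1 :: [2, 1, 4, 1, 1, 6, 1, 2, 1, 2, 1, 1, 4, 1], [3, 1, 3, 1, 1, 2, 1], 8, true⟩) (lall (memL L) [2, 1, 4, 1, 1, 6, 1, 2, 1, 2, 1, 1, 4, 1]) = true := by decide +kernel

theorem rot1_24 : T.rot 1 [4, 1, 1, 6, 1, 2, 1, 2, 1, 1, 4, 1, 1, 2] (sel (ones 252) ip1 24) = true := by decide +kernel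

theorem rot1_24r : band (Rule.ok (2 * 0) EX RL ⟨1 :: [4, 1, 1, 6, 1, 2, 1, 2, 1, 1, 4, 1, 1, 2], [0, 2, 2, 0, 0, 3, 0], 8, true⟩) (lall (memL L) [4, 1, 1, 6, 1, 2, 1, 2, 1, 1, 4, 1, 1, 2]) = true := by decide +kernel

theorem rot1_25 : T.rot 1 [1, 6, 1, 2, 1, 2, 1, 1, 4, 1, 1, 2, 1, 4] (sel (ones 252) ip1 25) = true := by decide +kernel

theorem rot1_25r : band (Rule.ok (2 * 0) EX RL ⟨1 :: [1, 6, 1, 2, 1, 2, 1, 1, 4, 1, 1, 2, 1, 4], [0, 2, 2, 0, 0], 8, true⟩) (lall (memL L) [1, 6, 1, 2, 1, 2, 1, 1, 4, 1, 1, 2, 1, 4]) = true := by decide +kernel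

theorem rot1_26 : T.rot 1 [6, 1, 2, 1, 2, 1, 1, 4, 1, 1, 2, 1, 4, 1] (sel (ones 252) ip1 26) = true := by decide +kernel

theorem rot1_26r : band (Rule.ok (2 * 0) EX RL ⟨1 :: [6, 1, 2, 1, 2, 1, 1, 4, 1, 1, 2, 1, 4, 1], [0, 2, 2, 0], 8, true⟩) (lall (memL L) [6, 1, 2, 1, 2, 1, 1, 4, 1, 1, 2, 1, 4, 1]) = true := by decide +kernel

theorem rot1_27 : T.rot 1 [2, 1, 2, 1, 1, 4, 1, 1, 2, 1, 4, 1, 1, 6] (sel (ones 252) ip1 27) = true := by decide +kernel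

theorem rot1_27r : band (Rule.ok (2 * 0) EX RL ⟨1 :: [2, 1, 2, 1, 1, 4, 1, 1, 2, 1, 4, 1, 1, 6], [0], 8, true⟩) (lall (memL L) [2, 1, 2, 1, 1, 4, 1, 1, 2, 1, 4, 1, 1, 6]) = true := by decide +kernel

theorem cov1 : T.cover 1 [(sel (ones 252) ip1 1), (sel (ones 252) ip1 2), (sel (ones 252) ip1 3), (sel (ones 252) ip1 4), (sel (ones 252) ip1 5), (sel (ones 252) ip1 6), (sel (ones 252) ip1 7), (sel (ones 252) ip1 8), (sel (ones 252) ip1 9), (sel (ones 252) ip1 10), (sel (ones 252) ip1 11), (sel (ones 252) ip1 12), (sel (ones 252) ip1 13), (sel (ones 252) ip1 14), (sel (ones 252) ip1 15), (sel (ones 252) ip1 16), (sel (ones 252) ip1 17), (sel (ones 252) ip1 18), (sel (ones 252) ip1 19), (sel (ones 252) ip1 20), (sel (ones 252) ip1 21), (sel (ones 252) ip1 22), (sel (ones 252) ip1 23), (sel (ones 252) ip1 24), (sel (ones 252) ip1 25), (sel (ones 252) ip1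 26), (sel (ones 252) ip1 27), 1] = true := by decide +kernel

theorem tl1 : T.treeLt 8 1 = true := by decide +kernel

theorem rot2_1 : T.rot 2 [4] (sel (ones 252) ip2 1) = true := by decide +kernel

theorem rot2_1r : band (Rule.ok (2 * 0) EX RL ⟨2 :: [4], [], 10, false⟩) (lall (memL L) [4]) = true := by decide +kernel

theorem rot2_2 : T.rot 2 [2, 5] (sel (ones 252) ip2 2) = true := by decide +kernel

theorem rot2_2r : band (Rule.ok (2 * 0) EX RL ⟨2 :: [2, 5], [], 10, false⟩) (lall (memL L) [2, 5]) = true := by decide +kernel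

theorem rot2_3 : T.rot 2 [5, 2] (sel (ones 252) ip2 3) = true := by decide +kernel

theorem rot2_3r : band (Rule.ok (2 * 0) EX RL ⟨2 :: [5, 2], [], 10, false⟩) (lall (memL L) [5, 2]) = true := by decide +kernel

theorem rot2_4 : T.rot 2 [1, 4, 3, 2, 1, 4, 3, 2, 1, 4, 3] (sel (ones 252) ip2 4) = true := by decide +kernel

theorem rot2_4r : band (Rule.ok (2 * 0) EX RL ⟨2 :: [1, 4, 3, 2, 1, 4, 3, 2, 1, 4, 3], [], 9, true⟩) (lall (memL L) [1, 4, 3, 2, 1, 4, 3, 2, 1, 4, 3]) = true := by decide +kernel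

theorem rot2_5 : T.rot 2 [3, 4, 1, 2, 3, 4, 1, 2, 3, 4, 1] (sel (ones 252) ip2 5) = true := by decide +kernel

theorem rot2_5r : band (Rule.ok (2 * 0) EX RL ⟨2 :: [3, 4, 1, 2, 3, 4, 1, 2, 3, 4, 1], [1], 9, false⟩) (lall (memL L) [3, 4, 1, 2, 3, 4, 1, 2, 3, 4, 1]) = true := by decide +kernel

theorem rot2_6 : T.rot 2 [1, 1, 4, 1, 2, 3, 3, 4, 1, 4, 8] (sel (ones 252) ip2 6) = true := by decide +kernel

theorem rot2_6r : band (Rule.ok (2 * 0) EX RL ⟨2 :: [1, 1, 4, 1, 2, 3, 3, 4, 1, 4, 8], [], 10, false⟩) (lall (memL L) [1, 1, 4, 1, 2, 3, 3, 4, 1, 4, 8]) = true := by decide +kernel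

theorem rot2_7 : T.rot 2 [3, 3, 4, 1, 4, 8, 2, 1, 1, 4, 1] (sel (ones 252) ip2 7) = true := by decide +kernel

theorem rot2_7r : band (Rule.ok (2 * 0) EX RL ⟨2 :: [3, 3, 4, 1, 4, 8, 2, 1, 1, 4, 1], [], 10, false⟩) (lall (memL L) [3, 3, 4, 1, 4, 8, 2, 1, 1, 4, 1]) = true := by decide +kernel

theorem rot2_8 : T.rot 2 [3, 2, 1, 1, 4, 3, 2, 3, 3, 4, 7] (sel (ones 252) ip2 8) = true := by decide +kernel

theorem rot2_8r : band (Rule.ok (2 * 0) EX RL ⟨2 :: [3, 2, 1, 1, 4, 3, 2, 3, 3, 4, 7], [], 10, false⟩) (lall (memL L) [3, 2, 1, 1, 4, 3, 2, 3, 3, 4, 7]) = true := by decide +kernel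

theorem rot2_9 : T.rot 2 [3, 3, 4, 7, 2, 3, 2, 1, 1, 4, 3] (sel (ones 252) ip2 9) = true := by decide +kernel

theorem rot2_9r : band (Rule.ok (2 * 0) EX RL ⟨2 :: [3, 3, 4, 7, 2, 3, 2, 1, 1, 4, 3], [], 10, false⟩) (lall (memL L) [3, 3, 4, 7, 2, 3, 2, 1, 1, 4, 3]) = true := by decide +kernel

theorem rot2_10 : T.rot 2 [1, 2, 2, 1, 1, 4, 3, 2, 3, 2, 1, 4, 8] (sel (ones 252) ip2 10) = true := by decide +kernel

theorem rot2_10r : band (Rule.ok (2 * 0) EX RL ⟨2 :: [1, 2, 2, 1, 1, 4, 3, 2, 3, 2, 1, 4, 8], [], 7, true⟩) (lall (memL L) [1, 2, 2, 1, 1, 4, 3, 2, 3, 2, 1, 4, 8]) = true := by decide +kernel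

theorem rot2_11 : T.rot 2 [2, 1, 1, 4, 3, 2, 3, 2, 1, 4, 8, 2, 1] (sel (ones 252) ip2 11) = true := by decide +kernel

theorem rot2_11r : band (Rule.ok (2 * 0) EX RL ⟨2 :: [2, 1, 1, 4, 3, 2, 3, 2, 1, 4, 8, 2, 1], [3, 1], 7, true⟩) (lall (memL L) [2, 1, 1, 4, 3, 2, 3, 2, 1, 4, 8, 2, 1]) = true := by decide +kernel

theorem rot2_12 : T.rot 2 [1, 1, 4, 3, 2, 3, 2, 1, 4, 8, 2, 1, 2] (sel (ones 252) ip2 12) = true := by decide +kernel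

theorem rot2_12r : band (Rule.ok (2 * 0) EX RL ⟨2 :: [1, 1, 4, 3, 2, 3, 2, 1, 4, 8, 2, 1, 2], [3, 1, 3], 7, true⟩) (lall (memL L) [1, 1, 4, 3, 2, 3, 2, 1, 4, 8, 2, 1, 2]) = true := by decide +kernel

theorem rot2_13 : T.rot 2 [3, 2, 1, 4, 8, 2, 1, 2, 2, 1, 1, 4, 3] (sel (ones 252) ip2 13) = true := by decide +kernel

theorem rot2_13r : band (Rule.ok (2 * 0) EX RL ⟨2 :: [3, 2, 1, 4, 8, 2, 1, 2, 2, 1, 1, 4, 3], [3, 1, 1, 2], 7, true⟩) (lall (memL L) [3, 2, 1, 4, 8, 2, 1, 2, 2, 1, 1, 4, 3]) = true := by decide +kernel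

theorem rot2_14 : T.rot 2 [1, 4, 8, 2, 1, 2, 2, 1, 1, 4, 3, 2, 3] (sel (ones 252) ip2 14) = true := by decide +kernel

theorem rot2_14r : band (Rule.ok (2 * 0) EX RL ⟨2 :: [1, 4, 8, 2, 1, 2, 2, 1, 1, 4, 3, 2, 3], [3, 1], 7, true⟩) (lall (memL L) [1, 4, 8, 2, 1, 2, 2, 1, 1, 4, 3, 2, 3]) = true := by decide +kernel

theorem rot2_15 : T.rot 2 [3, 3, 4, 4, 3, 4, 7, 2, 3, 4, 1, 4, 1] (sel (ones 252) ip2 15) = true := by decide +kernel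

theorem rot2_15r : band (Rule.ok (2 * 0) EX RL ⟨2 :: [3, 3, 4, 4, 3, 4, 7, 2, 3, 4, 1, 4, 1], [3, 1, 1, 2, 1], 7, false⟩) (lall (memL L) [3, 3, 4, 4, 3, 4, 7, 2, 3, 4, 1, 4, 1]) = true := by decide +kernel

theorem rot2_16 : T.rot 2 [1, 2, 1, 1, 4, 1, 1, 2, 1, 4, 1, 1, 6, 1] (sel (ones 252) ip2 16) = true := by decide +kernel

theorem rot2_16r : band (Rule.ok (2 * 0) EX RL ⟨2 :: [1, 2, 1, 1, 4, 1, 1, 2, 1, 4, 1, 1, 6, 1], [], 8, true⟩) (lall (memL L) [1, 2, 1, 1, 4, 1, 1, 2, 1, 4, 1, 1, 6, 1]) = true := by decide +kernel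

theorem rot2_17 : T.rot 2 [1, 1, 4, 1, 1, 2, 1, 4, 1, 1, 6, 1, 2, 1] (sel (ones 252) ip2 17) = true := by decide +kernel

theorem rot2_17r : band (Rule.ok (2 * 0) EX RL ⟨2 :: [1, 1, 4, 1, 1, 2, 1, 4, 1, 1, 6, 1, 2, 1], [3, 1], 8, true⟩) (lall (memL L) [1, 1, 4, 1, 1, 2, 1, 4, 1, 1, 6, 1, 2, 1]) = true := by decide +kernel

theorem rot2_18 : T.rot 2 [1, 4, 1, 1, 6, 1, 2, 1, 2, 1, 1, 4, 1, 1] (sel (ones 252) ip2 18) = true := by decide +kernel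

theorem rot2_18r : band (Rule.ok (2 * 0) EX RL ⟨2 :: [1, 4, 1, 1, 6, 1, 2, 1, 2, 1, 1, 4, 1, 1], [0, 2, 2, 0, 0, 3, 0, 2], 8, true⟩) (lall (memL L) [1, 4, 1, 1, 6, 1, 2, 1, 2, 1, 1, 4, 1, 1]) = true := by decide +kernel

theorem rot2_19 : T.rot 2 [3, 4, 3, 3, 2, 3, 3, 4, 3, 4, 3, 5, 3, 3] (sel (ones 252) ip2 19) = true := by decide +kernel

theorem rot2_19r : band (Rule.ok (2 * 0) EX RL ⟨2 :: [3, 4, 3, 3, 2, 3, 3, 4, 3, 4, 3, 5, 3, 3], [0, 2, 2, 0, 0], 8, false⟩) (lall (memL L) [3, 4, 3, 3, 2, 3, 3, 4, 3, 4, 3, 5, 3, 3]) = true := by decide +kernel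

theorem rot2_20 : T.rot 2 [3, 3, 4, 3, 4, 3, 5, 3, 3, 2, 3, 4, 3, 3] (sel (ones 252) ip2 20) = true := by decide +kernel

theorem rot2_20r : band (Rule.ok (2 * 0) EX RL ⟨2 :: [3, 3, 4, 3, 4, 3, 5, 3, 3, 2, 3, 4, 3, 3], [3, 1, 3, 1, 1, 2], 8, false⟩) (lall (memL L) [3, 3, 4, 3, 4, 3, 5, 3, 3, 2, 3, 4, 3, 3]) = true := by decide +kernel

theorem cov2 : T.cover 2 [(sel (ones 252) ip2 1), (sel (ones 252) ip2 2), (sel (ones 252) ip2 3), (sel (ones 252) ip2 4), (sel (ones 252) ip2 5), (sel (ones 252) ip2 6), (sel (ones 252) ip2 7), (sel (ones 252) ip2 8), (sel (ones 252) ip2 9), (sel (ones 252) ip2 10), (sel (ones 252) ip2 11), (sel (ones 252) ip2 12), (sel (ones 252) ip2 13), (sel (ones 252) ip2 14), (sel (ones 252) ip2 15), (sel (ones 252) ip2 16), (sel (ones 252) ip2 17), (sel (ones 252) ip2 18), (sel (ones 252) ip2 19), (sel (ones 252) ip2 20)] = true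 := by decide +kernel

theorem tl2 : T.treeLt 8 2 = true := by decide +kernel

theorem rot3_1 : T.rot 3 [1] (sel (ones 252) ip3 1) = true := by decide +kernel

theorem rot3_1r : band (Rule.ok (2 * 0) EX RL ⟨3 :: [1], [], 10, false⟩) (lall (memL L) [1]) = true := by decide +kernel

theorem rot3_2 : T.rot 3 [3, 3, 3, 3] (sel (ones 252) ip3 2) = true := by decide +kernel

theorem rot3_2r : band (Rule.ok (2 * 0) EX RL ⟨3 :: [3, 3, 3, 3], [], 6, false⟩) (lall (memL L) [3, 3, 3, 3]) = true := by decide +kernel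

theorem rot3_3 : T.rot 3 [7, 6, 3, 3, 6, 8] (sel (ones 252) ip3 3) = true := by decide +kernel

theorem rot3_3r : band (Rule.ok (2 * 0) EX RL ⟨3 :: [7, 6, 3, 3, 6, 8], [3, 0, 3, 1, 1, 2, 0, 3, 0, 0, 2], 1, false⟩) (lall (memL L) [7, 6, 3, 3, 6, 8]) = true := by decide +kernel

theorem rot3_4 : T.rot 3 [3, 8, 8, 1, 7, 3, 7] (sel (ones 252) ip3 4) = true := by decide +kernel

theorem rot3_4r : band (Rule.ok (2 * 0) EX RL ⟨3 :: [3, 8, 8, 1, 7, 3, 7], [3, 1, 1, 2, 1, 3, 0, 0, 2, 1, 1, 1, 2, 1, 3, 0, 0, 2, 1, 2, 1, 1], 3, true⟩) (lall (memL L) [3, 8, 8, 1, 7, 3, 7]) = true := by decide +kernel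

theorem rot3_5 : T.rot 3 [5, 3, 5, 1, 5, 1, 5] (sel (ones 252) ip3 5) = true := by decide +kernel

theorem rot3_5r : band (Rule.ok (2 * 0) EX RL ⟨3 :: [5, 3, 5, 1, 5, 1, 5], [1, 3, 3, 1], 4, true⟩) (lall (memL L) [5, 3, 5, 1, 5, 1, 5]) = true := by decide +kernel

theorem rot3_6 : T.rot 3 [5, 1, 5, 1, 5, 3, 5] (sel (ones 252) ip3 6) = true := by decide +kernel

theorem rot3_6r : band (Rule.ok (2 * 0) EX RL ⟨3 :: [5, 1, 5, 1, 5, 3, 5], [1], 4, true⟩) (lall (memL L) [5, 1, 5, 1, 5, 3, 5]) = true := by decide +kernel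

theorem rot3_7 : T.rot 3 [6, 3, 6, 1, 6, 1, 6] (sel (ones 252) ip3 7) = true := by decide +kernel

theorem rot3_7r : band (Rule.ok (2 * 0) EX RL ⟨3 :: [6, 3, 6, 1, 6, 1, 6], [2, 2, 1, 2, 2, 1], 4, false⟩) (lall (memL L) [6, 3, 6, 1, 6, 1, 6]) = true := by decide +kernel

theorem rot3_8 : T.rot 3 [6, 1, 6, 1, 6, 3, 6] (sel (ones 252) ip3 8) = true := by decide +kernel

theorem rot3_8r : band (Rule.ok (2 * 0) EX RL ⟨3 :: [6, 1, 6, 1, 6, 3, 6], [2, 2, 1], 4, false⟩) (lall (memL L) [6, 1, 6, 1, 6, 3, 6]) = true := by decide +kernel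

theorem rot3_9 : T.rot 3 [2, 1, 4, 3, 2, 1, 4, 3, 2, 1, 4] (sel (ones 252) ip3 9) = true := by decide +kernel

theorem rot3_9r : band (Rule.ok (2 * 0) EX RL ⟨3 :: [2, 1, 4, 3, 2, 1, 4, 3, 2, 1, 4], [1], 9, true⟩) (lall (memL L) [2, 1, 4, 3, 2, 1, 4, 3, 2, 1, 4]) = true := by decide +kernel

theorem rot3_10 : T.rot 3 [4, 1, 2, 3, 4, 1, 2, 3, 4, 1, 2] (sel (ones 252) ip3 10) = true := by decide +kernel

theorem rot3_10r : band (Rule.ok (2 * 0) EX RL ⟨3 :: [4, 1, 2, 3, 4, 1, 2, 3, 4, 1, 2], [3, 1], 9, false⟩) (lall (memL L) [4, 1, 2, 3, 4, 1, 2, 3, 4, 1, 2]) = true := by decide +kernel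

theorem rot3_11 : T.rot 3 [2, 3, 3, 4, 7, 2, 3, 2, 1, 1, 4] (sel (ones 252) ip3 11) = true := by decide +kernel

theorem rot3_11r : band (Rule.ok (2 * 0) EX RL ⟨3 :: [2, 3, 3, 4, 7, 2, 3, 2, 1, 1, 4], [], 10, false⟩) (lall (memL L) [2, 3, 3, 4, 7, 2, 3, 2, 1, 1, 4]) = true := by decide +kernel

theorem rot3_12 : T.rot 3 [4, 7, 2, 3, 2, 1, 1, 4, 3, 2, 3] (sel (ones 252) ip3 12) = true := by decide +kernel

theorem rot3_12r : band (Rule.ok (2 * 0) EX RL ⟨3 :: [4, 7, 2, 3, 2, 1, 1, 4, 3, 2, 3], [], 10, false⟩) (lall (memL L) [4, 7, 2, 3, 2, 1, 1, 4, 3, 2, 3]) = true := by decide +kernel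

theorem rot3_13 : T.rot 3 [2, 3, 2, 1, 4, 8, 2, 1, 2, 2, 1, 1, 4] (sel (ones 252) ip3 13) = true := by decide +kernel

theorem rot3_13r : band (Rule.ok (2 * 0) EX RL ⟨3 :: [2, 3, 2, 1, 4, 8, 2, 1, 2, 2, 1, 1, 4], [3, 1, 1, 2, 1], 7, true⟩) (lall (memL L) [2, 3, 2, 1, 4, 8, 2, 1, 2, 2, 1, 1, 4]) = true := by decide +kernel

theorem rot3_14 : T.rot 3 [2, 1, 4, 8, 2, 1, 2, 2, 1, 1, 4, 3, 2] (sel (ones 252) ip3 14) = true := by decide +kernel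

theorem rot3_14r : band (Rule.ok (2 * 0) EX RL ⟨3 :: [2, 1, 4, 8, 2, 1, 2, 2, 1, 1, 4, 3, 2], [3, 1, 1], 7, true⟩) (lall (memL L) [2, 1, 4, 8, 2, 1, 2, 2, 1, 1, 4, 3, 2]) = true := by decide +kernel

theorem rot3_15 : T.rot 3 [3, 4, 4, 3, 4, 7, 2, 3, 4, 1, 4, 1, 2] (sel (ones 252) ip3 15) = true := by decide +kernel

theorem rot3_15r : band (Rule.ok (2 * 0) EX RL ⟨3 :: [3, 4, 4, 3, 4, 7, 2, 3, 4, 1, 4, 1, 2], [3, 1, 3, 3, 1, 1], 7, false⟩) (lall (memL L) [3, 4, 4, 3, 4, 7, 2, 3, 4, 1, 4, 1, 2]) = true := by decide +kernel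

theorem rot3_16 : T.rot 3 [4, 4, 3, 4, 7, 2, 3, 4, 1, 4, 1, 2, 3] (sel (ones 252) ip3 16) = true := by decide +kernel

theorem rot3_16r : band (Rule.ok (2 * 0) EX RL ⟨3 :: [4, 4, 3, 4, 7, 2, 3, 4, 1, 4, 1, 2, 3], [3, 1, 3, 3, 1], 7, false⟩) (lall (memL L) [4, 4, 3, 4, 7, 2, 3, 4, 1, 4, 1, 2, 3]) = true := by decide +kernel

theorem rot3_17 : T.rot 3 [5, 3, 3, 2, 3, 4, 3, 3, 2, 3, 3, 4, 3, 4] (sel (ones 252) ip3 17) = true := by decide +kernel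

theorem rot3_17r : band (Rule.ok (2 * 0) EX RL ⟨3 :: [5, 3, 3, 2, 3, 4, 3, 3, 2, 3, 3, 4, 3, 4], [], 8, false⟩) (lall (memL L) [5, 3, 3, 2, 3, 4, 3, 3, 2, 3, 3, 4, 3, 4]) = true := by decide +kernel

theorem rot3_18 : T.rot 3 [3, 2, 3, 4, 3, 3, 2, 3, 3, 4, 3, 4, 3, 5] (sel (ones 252) ip3 18) = true := by decide +kernel

theorem rot3_18r : band (Rule.ok (2 * 0) EX RL ⟨3 :: [3, 2, 3, 4, 3, 3, 2, 3, 3, 4, 3, 4, 3, 5], [0, 2, 2], 8, false⟩) (lall (memL L) [3, 2, 3, 4, 3, 3, 2, 3, 3, 4, 3, 4, 3, 5]) = true := by decide +kernel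

theorem rot3_19 : T.rot 3 [2, 3, 4, 3, 3, 2, 3, 3, 4, 3, 4, 3, 5, 3] (sel (ones 252) ip3 19) = true := by decide +kernel

theorem rot3_19r : band (Rule.ok (2 * 0) EX RL ⟨3 :: [2, 3, 4, 3, 3, 2, 3, 3, 4, 3, 4, 3, 5, 3], [0, 2, 2, 0], 8, false⟩) (lall (memL L) [2, 3, 4, 3, 3, 2, 3, 3, 4, 3, 4, 3, 5, 3]) = true := by decide +kernel

theorem rot3_20 : T.rot 3 [4, 3, 3, 2, 3, 3, 4, 3, 4, 3, 5, 3, 3, 2] (sel (ones 252) ip3 20) = true := by decide +kernel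

theorem rot3_20r : band (Rule.ok (2 * 0) EX RL ⟨3 :: [4, 3, 3, 2, 3, 3, 4, 3, 4, 3, 5, 3, 3, 2], [0, 2, 2, 0, 0, 3], 8, false⟩) (lall (memL L) [4, 3, 3, 2, 3, 3, 4, 3, 4, 3, 5, 3, 3, 2]) = true := by decide +kernel

theorem rot3_21 : T.rot 3 [3, 2, 3, 3, 4, 3, 4, 3, 5, 3, 3, 2, 3, 4] (sel (ones 252) ip3 21) = true := by decide +kernel

theorem rot3_21r : band (Rule.ok (2 * 0) EX RL ⟨3 :: [3, 2, 3, 3, 4, 3, 4, 3, 5, 3, 3, 2, 3, 4], [3, 1, 3, 1, 1, 2, 1, 1], 8, false⟩) (lall (memL L) [3, 2, 3, 3, 4, 3, 4, 3, 5, 3, 3, 2, 3, 4]) = true := by decide +kernel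

theorem rot3_22 : T.rot 3 [2, 3, 3, 4, 3, 4, 3, 5, 3, 3, 2, 3, 4, 3] (sel (ones 252) ip3 22) = true := by decide +kernel

theorem rot3_22r : band (Rule.ok (2 * 0) EX RL ⟨3 :: [2, 3, 3, 4, 3, 4, 3, 5, 3, 3, 2, 3, 4, 3], [3, 1, 3, 1, 1, 2, 1], 8, false⟩) (lall (memL L) [2, 3, 3, 4, 3, 4, 3, 5, 3, 3, 2, 3, 4, 3]) = true := by decide +kernel

theorem rot3_23 : T.rot 3 [4, 3, 4, 3, 5, 3, 3, 2, 3, 4, 3, 3, 2, 3] (sel (ones 252) ip3 23) = true := by decide +kernel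

theorem rot3_23r : band (Rule.ok (2 * 0) EX RL ⟨3 :: [4, 3, 4, 3, 5, 3, 3, 2, 3, 4, 3, 3, 2, 3], [3, 1, 3, 1], 8, false⟩) (lall (memL L) [4, 3, 4, 3, 5, 3, 3, 2, 3, 4, 3, 3, 2, 3]) = true := by decide +kernel

theorem rot3_24 : T.rot 3 [4, 3, 5, 3, 3, 2, 3, 4, 3, 3, 2, 3, 3, 4] (sel (ones 252) ip3 24) = true := by decide +kernel

theorem rot3_24r : band (Rule.ok (2 * 0) EX RL ⟨3 :: [4, 3, 5, 3, 3, 2, 3, 4, 3, 3, 2, 3, 3, 4], [3, 1], 8, false⟩) (lall (memL L) [4, 3, 5, 3, 3, 2, 3, 4, 3, 3, 2, 3, 3, 4]) = true := by decide +kernel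

theorem cov3 : T.cover 3 [(sel (ones 252) ip3 1), (sel (ones 252) ip3 2), (sel (ones 252) ip3 3), (sel (ones 252) ip3 4), (sel (ones 252) ip3 5), (sel (ones 252) ip3 6), (sel (ones 252) ip3 7), (sel (ones 252) ip3 8), (sel (ones 252) ip3 9), (sel (ones 252) ip3 10), (sel (ones 252) ip3 11), (sel (ones 252) ip3 12), (sel (ones 252) ip3 13), (sel (ones 252) ip3 14), (sel (ones 252) ip3 15), (sel (ones 252) ip3 16), (sel (ones 252) ip3 17), (sel (ones 252) ip3 18), (sel (ones 252) ip3 19), (sel (ones 252) ip3 20), (sel (ones 252) ip3 21), (sel (ones 252) ip3 22), (sel (ones 252) ip3 23), (sel (ones 252) ip3 24)] = true := by decide +kernel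

theorem tl3 : T.treeLt 8 3 = true := by decide +kernel

theorem rot4_1 : T.rot 4 [2] (sel (ones 252) ip4 1) = true := by decide +kernel

theorem rot4_1r : band (Rule.ok (2 * 0) EX RL ⟨4 :: [2], [], 10, false⟩) (lall (memL L) [2]) = true := by decide +kernel

theorem rot4_2 : T.rot 4 [4, 6] (sel (ones 252) ip4 2) = true := by decide +kernel

theorem rot4_2r : band (Rule.ok (2 * 0) EX RL ⟨4 :: [4, 6], [], 10, false⟩) (lall (memL L) [4, 6]) = true := by decide +kernel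

theorem rot4_3 : T.rot 4 [6, 4] (sel (ones 252) ip4 3) = true := by decide +kernel

theorem rot4_3r : band (Rule.ok (2 * 0) EX RL ⟨4 :: [6, 4], [], 10, false⟩) (lall (memL L) [6, 4]) = true := by decide +kernel

theorem rot4_4 : T.rot 4 [3, 2, 1, 4, 3, 2, 1, 4, 3, 2, 1] (sel (ones 252) ip4 4) = true := by decide +kernel

theorem rot4_4r : band (Rule.ok (2 * 0) EX RL ⟨4 :: [3, 2, 1, 4, 3, 2, 1, 4, 3, 2, 1], [1, 3], 9, true⟩) (lall (memL L) [3, 2, 1, 4, 3, 2, 1, 4, 3, 2, 1]) = true := by decide +kernel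

theorem rot4_5 : T.rot 4 [1, 2, 3, 4, 1, 2, 3, 4, 1, 2, 3] (sel (ones 252) ip4 5) = true := by decide +kernel

theorem rot4_5r : band (Rule.ok (2 * 0) EX RL ⟨4 :: [1, 2, 3, 4, 1, 2, 3, 4, 1, 2, 3], [3], 9, false⟩) (lall (memL L) [1, 2, 3, 4, 1, 2, 3, 4, 1, 2, 3]) = true := by decide +kernel

theorem rot4_6 : T.rot 4 [1, 2, 3, 3, 4, 1, 4, 8, 2, 1, 1] (sel (ones 252) ip4 6) = true := by decide +kernel

theorem rot4_6r : band (Rule.ok (2 * 0) EX RL ⟨4 :: [1, 2, 3, 3, 4, 1, 4, 8, 2, 1, 1], [], 10, false⟩) (lall (memL L) [1, 2, 3, 3, 4, 1, 4, 8, 2, 1, 1]) = true := by decide +kernel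

theorem rot4_7 : T.rot 4 [8, 2, 1, 1, 4, 1, 2, 3, 3, 4, 1] (sel (ones 252) ip4 7) = true := by decide +kernel

theorem rot4_7r : band (Rule.ok (2 * 0) EX RL ⟨4 :: [8, 2, 1, 1, 4, 1, 2, 3, 3, 4, 1], [], 10, false⟩) (lall (memL L) [8, 2, 1, 1, 4, 1, 2, 3, 3, 4, 1]) = true := by decide +kernel

theorem rot4_8 : T.rot 4 [3, 2, 3, 3, 4, 7, 2, 3, 2, 1, 1] (sel (ones 252) ip4 8) = true := by decide +kernel

theorem rot4_8r : band (Rule.ok (2 * 0) EX RL ⟨4 :: [3, 2, 3, 3, 4, 7, 2, 3, 2, 1, 1], [], 10, false⟩) (lall (memL L) [3, 2, 3, 3, 4, 7, 2, 3, 2, 1, 1]) = true := by decide +kernel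

theorem rot4_9 : T.rot 4 [7, 2, 3, 2, 1, 1, 4, 3, 2, 3, 3] (sel (ones 252) ip4 9) = true := by decide +kernel

theorem rot4_9r : band (Rule.ok (2 * 0) EX RL ⟨4 :: [7, 2, 3, 2, 1, 1, 4, 3, 2, 3, 3], [], 10, false⟩) (lall (memL L) [7, 2, 3, 2, 1, 1, 4, 3, 2, 3, 3]) = true := by decide +kernel

theorem rot4_10 : T.rot 4 [3, 2, 3, 2, 1, 4, 8, 2, 1, 2, 2, 1, 1] (sel (ones 252) ip4 10) = true := by decide +kernel

theorem rot4_10r : band (Rule.ok (2 * 0) EX RL ⟨4 :: [3, 2, 3, 2, 1, 4, 8, 2, 1, 2, 2, 1, 1], [3, 1, 1, 2, 1, 3], 7, true⟩) (lall (memL L) [3, 2, 3, 2, 1, 4, 8, 2, 1, 2, 2, 1, 1]) = true := by decide +kernel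

theorem rot4_11 : T.rot 4 [1, 4, 1, 2, 3, 3, 4, 4, 3, 4, 7, 2, 3] (sel (ones 252) ip4 11) = true := by decide +kernel

theorem rot4_11r : band (Rule.ok (2 * 0) EX RL ⟨4 :: [1, 4, 1, 2, 3, 3, 4, 4, 3, 4, 7, 2, 3], [3, 1, 3], 7, false⟩) (lall (memL L) [1, 4, 1, 2, 3, 3, 4, 4, 3, 4, 7, 2, 3]) = true := by decide +kernel

theorem rot4_12 : T.rot 4 [1, 2, 3, 3, 4, 4, 3, 4, 7, 2, 3, 4, 1] (sel (ones 252) ip4 12) = true := by decide +kernel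

theorem rot4_12r : band (Rule.ok (2 * 0) EX RL ⟨4 :: [1, 2, 3, 3, 4, 4, 3, 4, 7, 2, 3, 4, 1], [3, 1, 1], 7, false⟩) (lall (memL L) [1, 2, 3, 3, 4, 4, 3, 4, 7, 2, 3, 4, 1]) = true := by decide +kernel

theorem rot4_13 : T.rot 4 [4, 3, 4, 7, 2, 3, 4, 1, 4, 1, 2, 3, 3] (sel (ones 252) ip4 13) = true := by decide +kernel

theorem rot4_13r : band (Rule.ok (2 * 0) EX RL ⟨4 :: [4, 3, 4, 7, 2, 3, 4, 1, 4, 1, 2, 3, 3], [3, 1, 3, 3], 7, false⟩) (lall (memL L) [4, 3, 4, 7, 2, 3, 4, 1, 4, 1, 2, 3, 3]) = true := by decide +kernel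

theorem rot4_14 : T.rot 4 [7, 2, 3, 4, 1, 4, 1, 2, 3, 3, 4, 4, 3] (sel (ones 252) ip4 14) = true := by decide +kernel

theorem rot4_14r : band (Rule.ok (2 * 0) EX RL ⟨4 :: [7, 2, 3, 4, 1, 4, 1, 2, 3, 3, 4, 4, 3], [3], 7, false⟩) (lall (memL L) [7, 2, 3, 4, 1, 4, 1, 2, 3, 3, 4, 4, 3]) = true := by decide +kernel

theorem rot4_15 : T.rot 4 [1, 1, 2, 1, 4, 1, 1, 6, 1, 2, 1, 2, 1, 1] (sel (ones 252) ip4 15) = true := by decide +kernel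

theorem rot4_15r : band (Rule.ok (2 * 0) EX RL ⟨4 :: [1, 1, 2, 1, 4, 1, 1, 6, 1, 2, 1, 2, 1, 1], [3, 1, 3, 1, 1], 8, true⟩) (lall (memL L) [1, 1, 2, 1, 4, 1, 1, 6, 1, 2, 1, 2, 1, 1]) = true := by decide +kernel

theorem rot4_16 : T.rot 4 [1, 1, 6, 1, 2, 1, 2, 1, 1, 4, 1, 1, 2, 1] (sel (ones 252) ip4 16) = true := by decide +kernel

theorem rot4_16r : band (Rule.ok (2 * 0) EX RL ⟨4 :: [1, 1, 6, 1, 2, 1, 2, 1, 1, 4, 1, 1, 2, 1], [0, 2, 2, 0, 0, 3], 8, true⟩) (lall (memL L) [1, 1, 6, 1, 2, 1, 2, 1, 1, 4, 1, 1, 2, 1]) = true := by decide +kernel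

theorem rot4_17 : T.rot 4 [3, 3, 2, 3, 3, 4, 3, 4, 3, 5, 3, 3, 2, 3] (sel (ones 252) ip4 17) = true := by decide +kernel

theorem rot4_17r : band (Rule.ok (2 * 0) EX RL ⟨4 :: [3, 3, 2, 3, 3, 4, 3, 4, 3, 5, 3, 3, 2, 3], [0, 2, 2, 0, 0, 3, 0], 8, false⟩) (lall (memL L) [3, 3, 2, 3, 3, 4, 3, 4, 3, 5, 3, 3, 2, 3]) = true := by decide +kernel

theorem rot4_18 : T.rot 4 [3, 4, 3, 5, 3, 3, 2, 3, 4, 3, 3, 2, 3, 3] (sel (ones 252) ip4 18) = true := by decide +kernel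

theorem rot4_18r : band (Rule.ok (2 * 0) EX RL ⟨4 :: [3, 4, 3, 5, 3, 3, 2, 3, 4, 3, 3, 2, 3, 3], [3, 1, 3], 8, false⟩) (lall (memL L) [3, 4, 3, 5, 3, 3, 2, 3, 4, 3, 3, 2, 3, 3]) = true := by decide +kernel

theorem rot4_19 : T.rot 4 [3, 5, 3, 3, 2, 3, 4, 3, 3, 2, 3, 3, 4, 3] (sel (ones 252) ip4 19) = true := by decide +kernel

theorem rot4_19r : band (Rule.ok (2 * 0) EX RL ⟨4 :: [3, 5, 3, 3, 2, 3, 4, 3, 3, 2, 3, 3, 4, 3], [3], 8, false⟩) (lall (memL L) [3, 5, 3, 3, 2, 3, 4, 3, 3, 2, 3, 3, 4, 3]) = true := by decide +kernel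

theorem cov4 : T.cover 4 [(sel (ones 252) ip4 1), (sel (ones 252) ip4 2), (sel (ones 252) ip4 3), (sel (ones 252) ip4 4), (sel (ones 252) ip4 5), (sel (ones 252) ip4 6), (sel (ones 252) ip4 7), (sel (ones 252) ip4 8), (sel (ones 252) ip4 9), (sel (ones 252) ip4 10), (sel (ones 252) ip4 11), (sel (ones 252) ip4 12), (sel (ones 252) ip4 13), (sel (ones 252) ip4 14), (sel (ones 252) ip4 15), (sel (ones 252) ip4 16), (sel (ones 252) ip4 17), (sel (ones 252) ip4 18), (sel (ones 252) ip4 19)] = true := by decide +kernel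

theorem tl4 : T.treeLt 8 4 = true := by decide +kernel

theorem rot5_1 : T.rot 5 [5] (sel (ones 252) ip5 1) = true := by decide +kernel

theorem rot5_1r : band (Rule.ok (2 * 0) EX RL ⟨5 :: [5], [], 5, true⟩) (lall (memL L) [5]) = true := by decide +kernel

theorem rot5_2 : T.rot 5 [2, 2] (sel (ones 252) ip5 2) = true := by decide +kernel

theorem rot5_2r : band (Rule.ok (2 * 0) EX RL ⟨5 :: [2, 2], [], 10, false⟩) (lall (memL L) [2, 2]) = true := by decide +kernel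

theorem rot5_3 : T.rot 5 [1, 5, 1, 5, 3, 5, 3] (sel (ones 252) ip5 3) = true := by decide +kernel

theorem rot5_3r : band (Rule.ok (2 * 0) EX RL ⟨5 :: [1, 5, 1, 5, 3, 5, 3], [], 4, true⟩) (lall (memL L) [1, 5, 1, 5, 3, 5, 3]) = true := by decide +kernel

theorem rot5_4 : T.rot 5 [1, 5, 3, 5, 3, 5, 1] (sel (ones 252) ip5 4) = true := by decide +kernel

theorem rot5_4r : band (Rule.ok (2 * 0) EX RL ⟨5 :: [1, 5, 3, 5, 3, 5, 1], [2, 2, 1], 4, true⟩) (lall (memL L) [1, 5, 3, 5, 3, 5, 1]) = true := by decide +kernel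

theorem rot5_5 : T.rot 5 [3, 5, 3, 5, 1, 5, 1] (sel (ones 252) ip5 5) = true := by decide +kernel

theorem rot5_5r : band (Rule.ok (2 * 0) EX RL ⟨5 :: [3, 5, 3, 5, 1, 5, 1], [1, 3, 3, 1, 3, 3], 4, true⟩) (lall (memL L) [3, 5, 3, 5, 1, 5, 1]) = true := by decide +kernel

theorem rot5_6 : T.rot 5 [3, 5, 1, 5, 1, 5, 3] (sel (ones 252) ip5 6) = true := by decide +kernel

theorem rot5_6r : band (Rule.ok (2 * 0) EX RL ⟨5 :: [3, 5, 1, 5, 1, 5, 3], [1, 3, 3], 4, true⟩) (lall (memL L) [3, 5, 1, 5, 1, 5, 3]) = true := by decide +kernel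

theorem rot5_7 : T.rot 5 [3, 3, 2, 3, 4, 3, 3, 2, 3, 3, 4, 3, 4, 3] (sel (ones 252) ip5 7) = true := by decide +kernel

theorem rot5_7r : band (Rule.ok (2 * 0) EX RL ⟨5 :: [3, 3, 2, 3, 4, 3, 3, 2, 3, 3, 4, 3, 4, 3], [0], 8, false⟩) (lall (memL L) [3, 3, 2, 3, 4, 3, 3, 2, 3, 3, 4, 3, 4, 3]) = true := by decide +kernel

theorem cov5 : T.cover 5 [(sel (ones 252) ip5 1), (sel (ones 252) ip5 2), (sel (ones 252) ip5 3), (sel (ones 252) ip5 4), (sel (ones 252) ip5 5), (sel (ones 252) ip5 6), (sel (ones 252) ip5 7), 1] = true := by decide +kernel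

theorem tl5 : Nat.beq (T.let 5).tt 0 = true := by decide +kernel

theorem rot6_1 : T.rot 6 [5] (sel (ones 252) ip6 1) = true := by decide +kernel

theorem rot6_1r : band (Rule.ok (2 * 0) EX RL ⟨6 :: [5], [], 10, false⟩) (lall (memL L) [5]) = true := by decide +kernel

theorem rot6_2 : T.rot 6 [6] (sel (ones 252) ip6 2) = true := by decide +kernel

theorem rot6_2r : band (Rule.ok (2 * 0) EX RL ⟨6 :: [6], [], 5, false⟩) (lall (memL L) [6]) = true := by decide +kernel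

theorem rot6_3 : T.rot 6 [4, 4] (sel (ones 252) ip6 3) = true := by decide +kernel

theorem rot6_3r : band (Rule.ok (2 * 0) EX RL ⟨6 :: [4, 4], [], 10, false⟩) (lall (memL L) [4, 4]) = true := by decide +kernel

theorem rot6_4 : T.rot 6 [1, 6, 3, 6, 3, 6, 1] (sel (ones 252) ip6 4) = true := by decide +kernel

theorem rot6_4r : band (Rule.ok (2 * 0) EX RL ⟨6 :: [1, 6, 3, 6, 3, 6, 1], [1], 4, false⟩) (lall (memL L) [1, 6, 3, 6, 3, 6, 1]) = true := by decide +kernel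

theorem rot6_5 : T.rot 6 [3, 6, 3, 6, 1, 6, 1] (sel (ones 252) ip6 5) = true := by decide +kernel

theorem rot6_5r : band (Rule.ok (2 * 0) EX RL ⟨6 :: [3, 6, 3, 6, 1, 6, 1], [1, 3, 3, 1], 4, false⟩) (lall (memL L) [3, 6, 3, 6, 1, 6, 1]) = true := by decide +kernel

theorem rot6_6 : T.rot 6 [3, 6, 1, 6, 1, 6, 3] (sel (ones 252) ip6 6) = true := by decide +kernel

theorem rot6_6r : band (Rule.ok (2 * 0) EX RL ⟨6 :: [3, 6, 1, 6, 1, 6, 3], [2, 2, 1, 2, 2], 4, false⟩) (lall (memL L) [3, 6, 1, 6, 1, 6, 3]) = true := by decide +kernel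

theorem rot6_7 : T.rot 6 [1, 6, 1, 6, 3, 6, 3] (sel (ones 252) ip6 7) = true := by decide +kernel

theorem rot6_7r : band (Rule.ok (2 * 0) EX RL ⟨6 :: [1, 6, 1, 6, 3, 6, 3], [2, 2], 4, false⟩) (lall (memL L) [1, 6, 1, 6, 3, 6, 3]) = true := by decide +kernel

theorem rot6_8 : T.rot 6 [1, 2, 1, 2, 1, 1, 4, 1, 1, 2, 1, 4, 1, 1] (sel (ones 252) ip6 8) = true := by decide +kernel

theorem rot6_8r : band (Rule.ok (2 * 0) EX RL ⟨6 :: [1, 2, 1, 2, 1, 1, 4, 1, 1, 2, 1, 4, 1, 1], [0, 2, 2], 8, true⟩) (lall (memL L) [1, 2, 1, 2, 1, 1, 4, 1, 1, 2, 1, 4, 1, 1]) = true := by decide +kernel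

theorem cov6 : T.cover 6 [(sel (ones 252) ip6 1), (sel (ones 252) ip6 2), (sel (ones 252) ip6 3), (sel (ones 252) ip6 4), (sel (ones 252) ip6 5), (sel (ones 252) ip6 6), (sel (ones 252) ip6 7), (sel (ones 252) ip6 8)] = true := by decide +kernel

theorem tl6 : Nat.beq (T.let 6).tt 0 = true := by decide +kernel

theorem rot7_1 : T.rot 7 [7, 7, 7] (sel (ones 252) ip7 1) = true := by decide +kernel

theorem rot7_1r : band (Rule.ok (2 * 0) EX RL ⟨7 :: [7, 7, 7], [], 0, true⟩) (lall (memL L) [7, 7, 7]) = true := by decide +kernel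

theorem rot7_2 : T.rot 7 [5, 1, 1, 5, 8, 1] (sel (ones 252) ip7 2) = true := by decide +kernel

theorem rot7_2r : band (Rule.ok (2 * 0) EX RL ⟨7 :: [5, 1, 1, 5, 8, 1], [3, 0, 3, 1, 1, 2, 0, 3, 0, 0, 2], 1, true⟩) (lall (memL L) [5, 1, 1, 5, 8, 1]) = true := by decide +kernel

theorem rot7_3 : T.rot 7 [6, 3, 3, 6, 8, 3] (sel (ones 252) ip7 3) = true := by decide +kernel

theorem rot7_3r : band (Rule.ok (2 * 0) EX RL ⟨7 :: [6, 3, 3, 6, 8, 3], [3, 0, 3, 1, 1, 2, 0, 3, 0, 0, 2, 0], 1, false⟩) (lall (memL L) [6, 3, 3, 6, 8, 3]) = true := by decide +kernel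

theorem rot7_4 : T.rot 7 [5, 7, 7, 5, 8, 5] (sel (ones 252) ip7 4) = true := by decide +kernel

theorem rot7_4r : band (Rule.ok (2 * 0) EX RL ⟨7 :: [5, 7, 7, 5, 8, 5], [2, 2], 2, true⟩) (lall (memL L) [5, 7, 7, 5, 8, 5]) = true := by decide +kernel

theorem rot7_5 : T.rot 7 [7, 5, 8, 5, 7, 5] (sel (ones 252) ip7 5) = true := by decide +kernel

theorem rot7_5r : band (Rule.ok (2 * 0) EX RL ⟨7 :: [7, 5, 8, 5, 7, 5], [2, 1, 1, 2, 1, 3, 0, 0, 2, 1, 2, 2, 2], 2, true⟩) (lall (memL L) [7, 5, 8, 5, 7, 5]) = true := by decide +kernel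

theorem rot7_6 : T.rot 7 [5, 8, 5, 7, 5, 7] (sel (ones 252) ip7 6) = true := by decide +kernel

theorem rot7_6r : band (Rule.ok (2 * 0) EX RL ⟨7 :: [5, 8, 5, 7, 5, 7], [3, 1, 1, 2, 1, 3, 0, 0, 2, 1, 3, 3, 0, 3, 1, 1, 2, 0, 3, 0, 0, 2], 2, true⟩) (lall (memL L) [5, 8, 5, 7, 5, 7]) = true := by decide +kernel

theorem rot7_7 : T.rot 7 [3, 7, 3, 3, 8, 8, 1] (sel (ones 252) ip7 7) = true := by decide +kernel

theorem rot7_7r : band (Rule.ok (2 * 0) EX RL ⟨7 :: [3, 7, 3, 3, 8, 8, 1], [1], 3, true⟩) (lall (memL L) [3, 7, 3, 3, 8, 8, 1]) = true := by decide +kernel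

theorem rot7_8 : T.rot 7 [3, 3, 8, 8, 1, 7, 3] (sel (ones 252) ip7 8) = true := by decide +kernel

theorem rot7_8r : band (Rule.ok (2 * 0) EX RL ⟨7 :: [3, 3, 8, 8, 1, 7, 3], [1, 3, 1, 1, 2, 1, 3, 0, 0, 2, 1, 2, 0], 3, true⟩) (lall (memL L) [3, 3, 8, 8, 1, 7, 3]) = true := by decide +kernel

theorem rot7_9 : T.rot 7 [2, 3, 2, 1, 1, 4, 3, 2, 3, 3, 4] (sel (ones 252) ip7 9) = true := by decide +kernel

theorem rot7_9r : band (Rule.ok (2 * 0) EX RL ⟨7 :: [2, 3, 2, 1, 1, 4, 3, 2, 3, 3, 4], [], 10, false⟩) (lall (memL L) [2, 3, 2, 1, 1, 4, 3, 2, 3, 3, 4]) = true := by decide +kernel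

theorem rot7_10 : T.rot 7 [2, 3, 4, 1, 4, 1, 2, 3, 3, 4, 4, 3, 4] (sel (ones 252) ip7 10) = true := by decide +kernel

theorem rot7_10r : band (Rule.ok (2 * 0) EX RL ⟨7 :: [2, 3, 4, 1, 4, 1, 2, 3, 3, 4, 4, 3, 4], [], 7, false⟩) (lall (memL L) [2, 3, 4, 1, 4, 1, 2, 3, 3, 4, 4, 3, 4]) = true := by decide +kernel

theorem cov7 : T.cover 7 [(sel (ones 252) ip7 1), (sel (ones 252) ip7 2), (sel (ones 252) ip7 3), (sel (ones 252) ip7 4), (sel (ones 252) ip7 5), (sel (ones 252) ip7 6), (sel (ones 252) ip7 7), (sel (ones 252) ip7 8), (sel (ones 252) ip7 9), (sel (ones 252) ip7 10), 1] = true := by decide +kernel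

theorem tl7 : Nat.beq (T.let 7).tt 0 = true := by decide +kernel

theorem rot8_1 : T.rot 8 [8, 8, 8] (sel (ones 252) ip8 1) = true := by decide +kernel

theorem rot8_1r : band (Rule.ok (2 * 0) EX RL ⟨8 :: [8, 8, 8], [], 0, false⟩) (lall (memL L) [8, 8, 8]) = true := by decide +kernel

theorem rot8_2 : T.rot 8 [1, 7, 5, 1, 1, 5] (sel (ones 252) ip8 2) = true := by decide +kernel

theorem rot8_2r : band (Rule.ok (2 * 0) EX RL ⟨8 :: [1, 7, 5, 1, 1, 5], [2, 2, 1, 1, 2, 2], 1, true⟩) (lall (memL L) [1, 7, 5, 1, 1, 5]) = true := by decide +kernel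

theorem rot8_3 : T.rot 8 [3, 7, 6, 3, 3, 6] (sel (ones 252) ip8 3) = true := by decide +kernel

theorem rot8_3r : band (Rule.ok (2 * 0) EX RL ⟨8 :: [3, 7, 6, 3, 3, 6], [], 1, false⟩) (lall (memL L) [3, 7, 6, 3, 3, 6]) = true := by decide +kernel

theorem rot8_4 : T.rot 8 [8, 6, 8, 6, 7, 6] (sel (ones 252) ip8 4) = true := by decide +kernel

theorem rot8_4r : band (Rule.ok (2 * 0) EX RL ⟨8 :: [8, 6, 8, 6, 7, 6], [3, 1, 1, 2, 1, 3, 0, 0, 2, 1, 3], 2, false⟩) (lall (memL L) [8, 6, 8, 6, 7, 6]) = true := by decide +kernel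

theorem rot8_5 : T.rot 8 [6, 8, 6, 7, 6, 8] (sel (ones 252) ip8 5) = true := by decide +kernel

theorem rot8_5r : band (Rule.ok (2 * 0) EX RL ⟨8 :: [6, 8, 6, 7, 6, 8], [2, 1, 1, 2, 1, 3, 0, 0, 2, 1, 2, 2, 1, 1, 2, 1, 3, 0, 0, 2, 1, 2], 2, false⟩) (lall (memL L) [6, 8, 6, 7, 6, 8]) = true := by decide +kernel

theorem rot8_6 : T.rot 8 [1, 8, 3, 7, 7, 1, 1] (sel (ones 252) ip8 6) = true := by decide +kernel

theorem rot8_6r : band (Rule.ok (2 * 0) EX RL ⟨8 :: [1, 8, 3, 7, 7, 1, 1], [3, 1, 1, 2, 1, 3, 0, 0, 2, 1, 1, 1, 2, 1, 3, 0, 0, 2, 1, 2, 1, 1], 3, false⟩) (lall (memL L) [1, 8, 3, 7, 7, 1, 1]) = true := by decide +kernel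

theorem rot8_7 : T.rot 8 [3, 7, 7, 1, 1, 8, 1] (sel (ones 252) ip8 7) = true := by decide +kernel

theorem rot8_7r : band (Rule.ok (2 * 0) EX RL ⟨8 :: [3, 7, 7, 1, 1, 8, 1], [1, 3, 1, 1, 2, 1, 3, 0, 0, 2, 1, 2], 3, false⟩) (lall (memL L) [3, 7, 7, 1, 1, 8, 1]) = true := by decide +kernel

theorem rot8_8 : T.rot 8 [2, 1, 1, 4, 1, 2, 3, 3, 4, 1, 4] (sel (ones 252) ip8 8) = true := by decide +kernel

theorem rot8_8r : band (Rule.ok (2 * 0) EX RL ⟨8 :: [2, 1, 1, 4, 1, 2, 3, 3, 4, 1, 4], [], 10, false⟩) (lall (memL L) [2, 1, 1, 4, 1, 2, 3, 3, 4, 1, 4]) = true := by decide +kernel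

theorem rot8_9 : T.rot 8 [2, 1, 2, 2, 1, 1, 4, 3, 2, 3, 2, 1, 4] (sel (ones 252) ip8 9) = true := by decide +kernel

theorem rot8_9r : band (Rule.ok (2 * 0) EX RL ⟨8 :: [2, 1, 2, 2, 1, 1, 4, 3, 2, 3, 2, 1, 4], [3, 1, 3, 1, 2], 7, true⟩) (lall (memL L) [2, 1, 2, 2, 1, 1, 4, 3, 2, 3, 2, 1, 4]) = true := by decide +kernel

theorem cov8 : T.cover 8 [(sel (ones 252) ip8 1), (sel (ones 252) ip8 2), (sel (ones 252) ip8 3), (sel (ones 252) ip8 4), (sel (ones 252) ip8 5), (sel (ones 252) ip8 6), (sel (ones 252) ip8 7), (sel (ones 252) ip8 8), (sel (ones 252) ip8 9)] = true := by decide +kernel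

theorem tl8 : Nat.beq (T.let 8).tt 0 = true := by decide +kernel

end Cfsg.Agent.Spor.LyMcb
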